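import Cfsg.Agent.Lib.Held.THC0
import Cfsg.Agent.Lib.Held.THC1
import Cfsg.Agent.Lib.Held.THC2
import Cfsg.Agent.Lib.Held.THC3
import Cfsg.Agent.Lib.Held.THC4
import Cfsg.Agent.Lib.Held.THC5
import Cfsg.Agent.Lib.Held.THC6
import Cfsg.Agent.Lib.Held.THC7
import Cfsg.Agent.Lib.Held.THC8
import Cfsg.Agent.Lib.Held.THC9

set_option autoImplicit false
set_option maxRecDepth 100000

namespace Cfsg.Agent.Lib.Held

open TC

theorem TH_ok : Ok TH_t TH_R 16383 16319 29155 29155 :=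
  (Ok.step (lo := 29000) (Ok.step (lo := 28800) (Ok.step (lo := 28600) (Ok.step (lo := 28400) (Ok.step (lo := 28200) (Ok.step (lo := 28000) (Ok.step (lo := 27800) (Ok.step (lo := 27600) (Ok.step (lo := 27400) (Ok.step (lo := 27200) (Ok.step (lo := 27000) (Ok.step (lo := 26800) (Ok.step (lo := 26600) (Ok.step (lo := 26400) (Ok.step (lo := 26200) (Ok.step (lo := 26000) (Ok.step (lo := 25800) (Ok.step (lo := 25600) (Ok.step (lo := 25400) (Ok.step (lo := 25200) (Ok.step (lo := 25000) (Ok.step (lo := 24800) (Ok.step (lo := 24600) (Ok.step (lo := 24400) (Ok.step (lo := 24200) (Ok.step (lo := 24000) (Ok.step (lo := 23800) (Ok.step (lo := 23600) (Ok.step (lo := 23400) (Ok.step (lo := 23200) (Ok.step (lo := 23000) (Ok.step (lo := 22800) (Ok.step (lo := 22600) (Ok.step (lo := 22400) (Ok.step (lo := 22200) (Ok.step (lo := 22000) (Ok.step (lo := 21800) (Ok.step (lo := 21600) (Ok.step (lo := 21400) (Ok.step (lo := 21200) (Ok.step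 (lo := 21000) (Ok.step (lo := 20800) (Ok.step (lo := 20600) (Ok.step (lo := 20400) (Ok.step (lo := 20200) (Ok.step (lo := 20000) (Ok.step (lo := 19800) (Ok.step (lo := 19600) (Ok.step (lo := 19400) (Ok.step (lo := 19200) (Ok.step (lo := 19000) (Ok.step (lo := 18800) (Ok.step (lo := 18600) (Ok.step (lo := 18400) (Ok.step (lo := 18200) (Ok.step (lo := 18000) (Ok.step (lo := 17800) (Ok.step (lo := 17600) (Ok.step (lo := 17400) (Ok.step (lo := 17200) (Ok.step (lo := 17000) (Ok.step (lo := 16800) (Ok.step (lo := 16600) (Ok.step (lo := 16400) (Ok.step (lo := 16200) (Ok.step (lo := 16000) (Ok.step (lo := 15800) (Ok.step (lo := 15600) (Ok.step (lo := 15400) (Ok.step (lo := 15200) (Ok.step (lo := 15000) (Ok.step (lo := 14800) (Ok.step (lo := 14600) (Ok.step (lo := 14400) (Ok.step (lo := 14200) (Ok.step (lo := 14000) (Ok.step (lo := 13800) (Ok.step (lo := 13600) (Ok.step (lo := 13400) (Ok.step (lo := 13200) (Ok.step (lo := 13000)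 (Ok.step (lo := 12800) (Ok.step (lo := 12600) (Ok.step (lo := 12400) (Ok.step (lo := 12200) (Ok.step (lo := 12000) (Ok.step (lo := 11800) (Ok.step (lo := 11600) (Ok.step (lo := 11400) (Ok.step (lo := 11200) (Ok.step (lo := 11000) (Ok.step (lo := 10800) (Ok.step (lo := 10600) (Ok.step (lo := 10400) (Ok.step (lo := 10200) (Ok.step (lo := 10000) (Ok.step (lo := 9800) (Ok.step (lo := 9600) (Ok.step (lo := 9400) (Ok.step (lo := 9200) (Ok.step (lo := 9000) (Ok.step (lo := 8800) (Ok.step (lo := 8600) (Ok.step (lo := 8400) (Ok.step (lo := 8200) (Ok.step (lo := 8000) (Ok.step (lo := 7800) (Ok.step (lo := 7600) (Ok.step (lo := 7400) (Ok.step (lo := 7200) (Ok.step (lo := 7000) (Ok.step (lo := 6800) (Ok.step (lo := 6600) (Ok.step (lo := 6400) (Ok.step (lo := 6200) (Ok.step (lo := 6000) (Ok.step (lo := 5800) (Ok.step (lo := 5600) (Ok.step (lo := 5400) (Ok.step (lo := 5200) (Ok.step (lo := 5000) (Ok.step (lo := 4800) (Ok.step (lo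 := 4600) (Ok.step (lo := 4400) (Ok.step (lo := 4200) (Ok.step (lo := 4000) (Ok.step (lo := 3800) (Ok.step (lo := 3600) (Ok.step (lo := 3400) (Ok.step (lo := 3200) (Ok.step (lo := 3000) (Ok.step (lo := 2800) (Ok.step (lo := 2600) (Ok.step (lo := 2400) (Ok.step (lo := 2200) (Ok.step (lo := 2000) (Ok.step (lo := 1800) (Ok.step (lo := 1600) (Ok.step (lo := 1400) (Ok.step (lo := 1200) (Ok.step (lo := 1000) (Ok.step (lo := 800) (Ok.step (lo := 600) (Ok.step (lo := 400) (Ok.step (lo := 200) (Ok.step (lo := 0) Ok.zero TH_c0) TH_c1) TH_c2) TH_c3) TH_c4) TH_c5) TH_c6) TH_c7) TH_c8) TH_c9) TH_c10) TH_c11) TH_c12) TH_c13) TH_c14) TH_c15) TH_c16) TH_c17) TH_c18) TH_c19) TH_c20) TH_c21) TH_c22) TH_c23) TH_c24) TH_c25) TH_c26) TH_c27) TH_c28) TH_c29) TH_c30) TH_c31) TH_c32) TH_c33) TH_c34) TH_c35) TH_c36) TH_c37) TH_c38) TH_c39) TH_c40) TH_c41) TH_c42) TH_c43) TH_c44) TH_c45) TH_c46) TH_c47) TH_c48) TH_c49) TH_c50) TH_c51) TH_c52)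 TH_c53) TH_c54) TH_c55) TH_c56) TH_c57) TH_c58) TH_c59) TH_c60) TH_c61) TH_c62) TH_c63) TH_c64) TH_c65) TH_c66) TH_c67) TH_c68) TH_c69) TH_c70) TH_c71) TH_c72) TH_c73) TH_c74) TH_c75) TH_c76) TH_c77) TH_c78) TH_c79) TH_c80) TH_c81) TH_c82) TH_c83) TH_c84) TH_c85) TH_c86) TH_c87) TH_c88) TH_c89) TH_c90) TH_c91) TH_c92) TH_c93) TH_c94) TH_c95) TH_c96) TH_c97) TH_c98) TH_c99) TH_c100) TH_c101) TH_c102) TH_c103) TH_c104) TH_c105) TH_c106) TH_c107) TH_c108) TH_c109) TH_c110) TH_c111) TH_c112) TH_c113) TH_c114) TH_c115) TH_c116) TH_c117) TH_c118) TH_c119) TH_c120) TH_c121) TH_c122) TH_c123) TH_c124) TH_c125) TH_c126) TH_c127) TH_c128) TH_c129) TH_c130) TH_c131) TH_c132) TH_c133) TH_c134) TH_c135) TH_c136) TH_c137) TH_c138) TH_c139) TH_c140) TH_c141) TH_c142) TH_c143) TH_c144) TH_c145)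

end Cfsg.Agent.Lib.Held
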